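import Cfsg.Agent.Lib.Sporadic.RuInv.Table

/-! Kernel checks of the involution tables. -/

set_option autoImplicit false
set_option maxRecDepth 100000

namespace CfsgLib.Sporadic.RuInv

theorem scan4 : scanBlock 4 = true := by decide +kernel

theorem scan5 : scanBlock 5 = true := by decide +kernel

theorem scan6 : scanBlock 6 = true := by decide +kernel

theorem scan7 : scanBlock 7 = true := by decide +kernel

end CfsgLib.Sporadic.RuInv
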