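import Cfsg.Agent.Lib.Sporadic.RuInv.Table

/-! Kernel checks of the involution tables. -/

set_option autoImplicit false
set_option maxRecDepth 100000

namespace CfsgLib.Sporadic.RuInv

theorem scan8 : scanBlock 8 = true := by decide +kernel

theorem scan9 : scanBlock 9 = true := by decide +kernel

theorem scan10 : scanBlock 10 = true := by decide +kernel

theorem scan11 : scanBlock 11 = true := by decide +kernel

end CfsgLib.Sporadic.RuInv
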