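import Cfsg.Agent.Lib.Sporadic.RuInv.Table

/-! Kernel checks of the involution tables. -/

set_option autoImplicit false
set_option maxRecDepth 100000

namespace CfsgLib.Sporadic.RuInv

theorem scan12 : scanBlock 12 = true := by decide +kernel

theorem scan13 : scanBlock 13 = true := by decide +kernel

theorem scan14 : scanBlock 14 = true := by decide +kernel

theorem scan15 : scanBlock 15 = true := by decide +kernel

end CfsgLib.Sporadic.RuInv
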