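import Cfsg.Agent.Lib.Sporadic.RuInv.CheckGroup
import Cfsg.Agent.Lib.Sporadic.RuInv.Scan0
import Cfsg.Agent.Lib.Sporadic.RuInv.Scan1
import Cfsg.Agent.Lib.Sporadic.RuInv.Scan2
import Cfsg.Agent.Lib.Sporadic.RuInv.Scan3
import Cfsg.Agent.Lib.Sporadic.RuGroup

/-!
# The involutions of the Rudvalis group

Every involution is conjugate to one of two, and the square of an element of order four is conjugate to
the first, as a scan of a Sylow 2-subgroup shows.
-/

set_option autoImplicit false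
set_option maxRecDepth 100000
set_option maxHeartbeats 1000000
set_option linter.style.haveILetI false

namespace CfsgLib.Sporadic.RuInv

open RuMod
open CfsgLib.Sporadic

attribute [local irreducible] mm Level.R Level.img dec

theorem fields_unit {e : ℕ} (he : fieldsOK gChain e = true) :
    ∃ g ∈ RG, (g : Mat) = dec (prodFrom gChain e) := by
  obtain ⟨hmem, -, hrep⟩ := chain_spec gChain gChain_ok
  have key : ∀ (Ls : List Level) (e : ℕ), fieldsOK Ls e = true →
      (∀ L ∈ Ls, ∀ i < L.n, ∃ r : G28, (r : Mat) = dec (L.R i)) → ∃ g : G28, (g : Mat) = dec (prodFrom Ls e) := by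
    intro Ls
    induction Ls with
    | nil => intro e _ _; exact ⟨1, by rw [prodFrom, dec_one]; rfl⟩
    | cons L rest ih =>
      intro e he hr
      simp only [fieldsOK, Bool.and_eq_true, Nat.blt_eq] at he
      obtain ⟨r, er⟩ := hr L List.mem_cons_self _ he.1
      obtain ⟨g, eg⟩ := ih _ he.2 fun L' h' => hr L' (List.mem_cons_of_mem _ h')
      exact ⟨r * g, by rw [Units.val_mul, er, eg, prodFrom, dec_mm]⟩
  obtain ⟨g, hg⟩ := key gChain e he hrep
  exact ⟨g, (hmem g).2 (prodFrom_mem gChain e he hg hrep), hg⟩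

theorem conj_spec {h rep x : ℕ} (ok : conjOK h rep x = true) :
    ∃ g ∈ RG, (g : Mat) * dec rep = dec x * (g : Mat) := by
  simp only [conjOK, Bool.and_eq_true, Nat.beq_eq] at ok
  obtain ⟨g, hg, eg⟩ := fields_unit ok.1
  exact ⟨g, hg, by rw [eg, ← dec_mm, ← dec_mm, ok.2]⟩

theorem exists_sgen : ∀ i : Fin 14, ∃ g ∈ RG, (g : Mat) = dec (sgen i) := fun i => by
  have h := forallLt_elim gens_ok i.isLt
  simp only [genOK, Bool.and_eq_true, Nat.beq_eq] at h
  obtain ⟨g, hg, eg⟩ := fields_unit h.1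
  exact ⟨g, hg, by rw [eg, h.2]⟩

/-- A generator of the Sylow subgroup. -/
noncomputable def sg (i : Fin 14) : G28 := (exists_sgen i).choose

theorem sg_spec (i : Fin 14) : sg i ∈ RG ∧ (sg i : Mat) = dec (sgen i) := (exists_sgen i).choose_spec

theorem sgen_lt (i : ℕ) (hi : i < 14) : sgen i < 2 ^ 784 := by
  have h := forallLt_elim gens_ok hi
  simp only [genOK, Bool.and_eq_true, Nat.beq_eq] at h
  rw [← h.2]
  exact mm_lt _ _

theorem low_high {e : ℕ} : Nat.land e 127 = e % 128 ∧ Nat.shiftRight e 7 = e / 128 :=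
  ⟨Nat.and_two_pow_sub_one_eq_mod e 7, Nat.shiftRight_eq_div_pow e 7⟩

theorem tables_zero : lowE 0 = one ∧ highE 0 = one := by
  have h := tables_ok
  simp only [tablesOK, Bool.and_eq_true, Nat.beq_eq] at h
  exact ⟨h.1.1.1, h.1.1.2⟩

theorem elem_zero : dec (elem 0) = 1 := by
  unfold elem
  rw [low_high.1, low_high.2, dec_mm, Nat.zero_mod, Nat.zero_div, tables_zero.1, tables_zero.2, dec_one, one_mul]

theorem elem_step (i : Fin 14) {e : ℕ} (he : e < 2 ^ i.val) :
    dec (elem (e + 2 ^ i.val)) = dec (elem e) * dec (sgen i) := by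
  have h := tables_ok
  simp only [tablesOK, Bool.and_eq_true] at h
  obtain ⟨⟨-, hL⟩, hH⟩ := h
  by_cases hi : i.val < 7
  · have hp : (2 : ℕ) ^ i.val ≤ 64 := Nat.pow_le_pow_right (by norm_num) (by omega : i.val ≤ 6)
    have h1 := forallLt_elim (forallLt_elim hL hi) he
    simp only [Nat.beq_eq, Nat.add_eq, Nat.zero_add] at h1
    unfold elem
    rw [low_high.1, low_high.2, low_high.1, low_high.2, Nat.mod_eq_of_lt (by omega), Nat.div_eq_of_lt (by omega),
      Nat.mod_eq_of_lt (by omega : e < 128), Nat.div_eq_of_lt (by omega : e < 128), dec_mm, dec_mm, tables_zero.2,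
      dec_one, mul_one, mul_one, h1, dec_mm]
  · obtain ⟨j, hj⟩ : ∃ j, i.val = j + 7 := ⟨i.val - 7, by omega⟩
    have hp : (2 : ℕ) ^ i.val = 2 ^ j * 128 := by rw [hj, pow_add]; norm_num
    have h1 := forallLt_elim (forallLt_elim hH (k := j) (by omega)) (k := e / 128)
      (Nat.div_lt_of_lt_mul (by rw [Nat.mul_comm, ← hp]; exact he))
    simp only [Nat.beq_eq, Nat.add_eq] at h1
    unfold elem
    rw [low_high.1, low_high.2, low_high.1, low_high.2, hp, Nat.add_mul_mod_self_right,
      Nat.add_mul_div_right _ _ (by norm_num), dec_mm, dec_mm, mul_assoc]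
    rw [h1, dec_mm, show 7 + j = i.val by omega]

theorem elem_lt (e : ℕ) : elem e < 2 ^ 784 := mm_lt _ _

theorem conj_closure {G : Type*} [Group G] {S : Set G} {H : Subgroup G} {t : G}
    (h : ∀ s ∈ S, t * s * t⁻¹ ∈ H) {a : G} (ha : a ∈ Subgroup.closure S) : t * a * t⁻¹ ∈ H :=
  (Subgroup.closure_le (K := H.comap (MulAut.conj t).toMonoidHom)).2 h ha

theorem stage : ∀ n ≤ 14, ∃ H : Subgroup G28, H ≤ RG ∧ Nat.card H = 2 ^ n ∧
    (∀ j : Fin 14, j.val < n → sg j ∈ H) ∧ H ≤ Subgroup.closure (sg '' {j | j.val < n}) ∧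
    ∀ g : G28, g ∈ H ↔ ∃ e < 2 ^ n, (g : Mat) = dec (elem e) := by
  intro n
  induction n with
  | zero =>
    refine fun _ => ⟨⊥, bot_le, by simp, fun j hj => absurd hj (Nat.not_lt_zero _), bot_le, fun g => ?_⟩
    rw [Subgroup.mem_bot]
    refine ⟨fun h => ⟨0, by norm_num, by rw [h, elem_zero, Units.val_one]⟩, fun ⟨e, he, h⟩ => Units.ext ?_⟩
    rw [h, show e = 0 by simpa using he, elem_zero, Units.val_one]
  | succ n ih =>
    intro hn
    obtain ⟨H, hR, hcard, hs, hcl, hiff⟩ := ih (by omega)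
    set i : Fin 14 := ⟨n, by omega⟩ with hi
    set t := sg i with ht
    have hrel := forallLt_elim rels_ok i.isLt
    simp only [relOK, Bool.and_eq_true, Nat.beq_eq, Nat.blt_eq] at hrel
    obtain ⟨⟨⟨hq, hsq⟩, hconj⟩, hout⟩ := hrel
    have ht2 : t * t ∈ H := (hiff _).2 ⟨_, hq, by rw [Units.val_mul, ht, (sg_spec i).2, ← dec_mm, hsq]⟩
    have hnot : t ∉ H := fun hm => by
      obtain ⟨e, he, h⟩ := (hiff _).1 hm
      have h1 := forallLt_elim hout he
      rw [ht, (sg_spec i).2] at h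
      rw [← dec_inj (sgen_lt _ i.isLt) (elem_lt e) h] at h1
      simp at h1
    have hex : ∀ e < 2 ^ n, ∃ q ∈ H, (q : Mat) = dec (elem e) := by
      choose idx hlt hidx using fun a : H => (hiff a).1 a.2
      let F : H → Fin (2 ^ n) := fun a => ⟨idx a, hlt a⟩
      have hF : Function.Injective F := fun a b hab => Subtype.ext (Units.ext (by
        rw [hidx a, hidx b, show idx a = idx b from congrArg Fin.val hab]))
      have hb : Function.Bijective F :=
        (Nat.bijective_iff_injective_and_card F).2 ⟨hF, by rw [hcard, Nat.card_fin]⟩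
      intro e he
      obtain ⟨a, ha⟩ := hb.2 ⟨e, he⟩
      exact ⟨a, a.2, by rw [hidx a, show idx a = e from congrArg Fin.val ha]⟩
    have hnorm : ∀ a ∈ H, t * a * t⁻¹ ∈ H := by
      refine fun a ha => conj_closure (fun s hs' => ?_) (hcl ha)
      obtain ⟨j, hj, rfl⟩ := hs'

      have h1 := forallLt_elim hconj (k := j.val) hj
      simp only [Bool.and_eq_true, Nat.beq_eq, Nat.blt_eq] at h1
      obtain ⟨q, hqH, hqv⟩ : ∃ q ∈ H, (q : Mat) = dec (elem (relQ i (Nat.add j 1))) := hex _ h1.1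
      have e : t * sg j = q * t := Units.ext (by
        rw [Units.val_mul, Units.val_mul, ht, (sg_spec i).2, (sg_spec j).2, hqv, ← dec_mm, ← dec_mm]
        exact congrArg dec h1.2)
      rw [e, mul_inv_cancel_right]
      exact hqH
    let K : Subgroup G28 :=
      { carrier := {g | g ∈ H ∨ ∃ a ∈ H, g = a * t}
        one_mem' := Or.inl (one_mem _)
        mul_mem' := by
          rintro x y (hx | ⟨a, ha, rfl⟩) (hy | ⟨b, hb, rfl⟩)
          · exact Or.inl (mul_mem hx hy)
          · exact Or.inr ⟨x * b, mul_mem hx hb, by group⟩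
          · exact Or.inr ⟨a * (t * y * t⁻¹), mul_mem ha (hnorm y hy), by group⟩
          · refine Or.inl ?_
            rw [show a * t * (b * t) = a * (t * b * t⁻¹) * (t * t) by group]
            exact mul_mem (mul_mem ha (hnorm b hb)) ht2
        inv_mem' := by
          rintro x (hx | ⟨a, ha, rfl⟩)
          · exact Or.inl (inv_mem hx)
          · refine Or.inr ⟨(t * t)⁻¹ * (t * a⁻¹ * t⁻¹), mul_mem (inv_mem ht2) (hnorm _ (inv_mem ha)), by group⟩ }
    have hKcard : Nat.card K = 2 ^ (n + 1) := by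
      have hd : Disjoint (H : Set G28) ((· * t) '' (H : Set G28)) := Set.disjoint_left.2 fun x hx ⟨a, ha, e⟩ =>
        hnot (by
          have h1 := mul_mem (inv_mem ha) hx
          rwa [← show a * t = x from e, inv_mul_cancel_left] at h1)
      have e : (K : Set G28) = (H : Set G28) ∪ (· * t) '' (H : Set G28) := by
        ext x
        exact or_congr Iff.rfl ⟨fun ⟨a, ha, e⟩ => ⟨a, ha, e.symm⟩, fun ⟨a, ha, e⟩ => ⟨a, ha, e.symm⟩⟩
      show Nat.card (K : Set G28) = _
      rw [Nat.card_coe_set_eq, e, Set.ncard_union_eq hd, Set.ncard_image_of_injective _ (mul_left_injective t),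
        ← Nat.card_coe_set_eq, show Nat.card ↥(H : Set G28) = 2 ^ n from hcard, pow_succ]
      ring
    refine ⟨K, ?_, hKcard, fun j hj => ?_, ?_, fun g => ⟨?_, ?_⟩⟩
    · rintro x (hx | ⟨a, ha, rfl⟩)
      · exact hR hx
      · exact mul_mem (hR ha) (sg_spec i).1
    · by_cases h : j.val < n
      · exact Or.inl (hs j h)
      · obtain rfl : j = i := Fin.ext (by show j.val = n; omega)
        exact Or.inr ⟨1, one_mem _, (one_mul _).symm⟩
    · have hmono : Subgroup.closure (sg '' {j | j.val < n}) ≤ Subgroup.closure (sg '' {j | j.val < n + 1}) :=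
        Subgroup.closure_mono (Set.image_mono fun j (hj : j.val < n) => Nat.lt_succ_of_lt hj)
      rintro x (hx | ⟨a, ha, rfl⟩)
      · exact hmono (hcl hx)
      · exact mul_mem (hmono (hcl ha)) (Subgroup.subset_closure ⟨i, Nat.lt_succ_self n, rfl⟩)
    · rintro (hg | ⟨a, ha, rfl⟩)
      · obtain ⟨e, he, h⟩ := (hiff g).1 hg
        exact ⟨e, by rw [pow_succ]; omega, h⟩
      · obtain ⟨e, he, h⟩ := (hiff a).1 ha
        refine ⟨e + 2 ^ n, by rw [pow_succ]; omega, ?_⟩
        rw [Units.val_mul, h, ht, (sg_spec i).2]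
        exact (elem_step i he).symm
    · rintro ⟨e, he, h⟩
      by_cases hlow : e < 2 ^ n
      · exact Or.inl ((hiff g).2 ⟨e, hlow, h⟩)
      · have he' : e - 2 ^ n < 2 ^ n := by rw [pow_succ] at he; omega
        obtain ⟨a, ha, ea⟩ := hex _ he'
        refine Or.inr ⟨a, ha, Units.ext ?_⟩
        rw [Units.val_mul, h, ea, ht, (sg_spec i).2, ← elem_step i he']
        show dec (elem e) = dec (elem (e - 2 ^ n + 2 ^ n))
        rw [Nat.sub_add_cancel (Nat.le_of_not_lt hlow)]

theorem scan_all : ∀ e < 16384, scanOK e = true := by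
  intro e he
  have hb : ∀ b < 16, scanBlock b = true := by
    intro b hb
    interval_cases b
    exacts [scan0, scan1, scan2, scan3, scan4, scan5, scan6, scan7, scan8, scan9, scan10, scan11, scan12, scan13,
      scan14, scan15]
  have h := forallLt_elim (hb (e / 1024) (by omega)) (k := e % 1024) (Nat.mod_lt _ (by norm_num))
  simpa only [Nat.add_eq, Nat.mul_eq, Nat.div_add_mod'] using h

/-- A 2-element is conjugate into the table. -/
theorem into_table {y : G28} (hy : y ∈ RG) {n : ℕ} (hn : y ^ 2 ^ n = 1) :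
    ∃ g ∈ RG, ∃ e < 16384, ((g * y * g⁻¹ : G28) : Mat) = dec (elem e) := by
  haveI : Fact (Nat.Prime 2) := ⟨Nat.prime_two⟩
  haveI : Finite RG := Nat.finite_of_card_ne_zero (by rw [card_RG]; norm_num)
  obtain ⟨H, hR, hcard, -, -, hiff⟩ := stage 14 le_rfl
  have hfac : (145926144000 : ℕ).factorization 2 = 14 := by
    rw [show (145926144000 : ℕ) = 2 ^ 14 * 8906625 by norm_num, Nat.factorization_def _ Nat.prime_two,
      padicValNat.mul (by norm_num) (by norm_num), padicValNat.prime_pow,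
      padicValNat.eq_zero_of_not_dvd (by norm_num : ¬ 2 ∣ 8906625), add_zero]
  let PS : Sylow 2 RG := Sylow.ofCard (H.subgroupOf RG) (by
    rw [Nat.card_congr (Subgroup.subgroupOfEquivOfLe hR).toEquiv, hcard, card_RG, hfac])
  have hp : IsPGroup 2 (Subgroup.zpowers (⟨y, hy⟩ : RG)) := by
    obtain ⟨k, -, hk⟩ := (Nat.dvd_prime_pow Nat.prime_two).1
      (orderOf_dvd_of_pow_eq_one (show (⟨y, hy⟩ : RG) ^ 2 ^ n = 1 from Subtype.ext (by simpa using hn)))
    exact IsPGroup.of_card (n := k) (by rw [Nat.card_zpowers, hk])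
  obtain ⟨Q, hQ⟩ := hp.exists_le_sylow
  obtain ⟨c, hc⟩ := MulAction.exists_smul_eq RG Q PS
  have h1 : c * ⟨y, hy⟩ * c⁻¹ ∈ (PS : Subgroup RG) := by
    rw [← hc, Sylow.coe_subgroup_smul, Subgroup.mem_pointwise_smul_iff_inv_smul_mem]
    simpa [MulAut.smul_def, mul_assoc] using hQ (Subgroup.mem_zpowers _)
  obtain ⟨e, he, h⟩ := (hiff _).1 (Subgroup.mem_subgroupOf.1 h1)
  exact ⟨c, c.2, e, he, h⟩

theorem sq_one_iff {e : ℕ} : Nat.beq (mm (elem e) (elem e)) one = true ↔ dec (elem e) * dec (elem e) = 1 := by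
  rw [Nat.beq_eq, ← dec_mm, ← dec_one]
  exact ⟨congrArg dec, dec_inj (mm_lt _ _) one_lt⟩

/-- Every involution is conjugate to one of the two representatives. -/
theorem invol_class {x : G28} (hx : x ∈ RG) (h2 : x * x = 1) (h1 : x ≠ 1) :
    ∃ k < 2, ∃ g ∈ RG, (g : Mat) * dec (repM k) = (x : Mat) * (g : Mat) := by
  obtain ⟨c, hc, e, he, h⟩ := into_table hx (n := 1) (by rw [pow_one, pow_two, h2])
  have hs := scan_all e he
  have hsq : Nat.beq (mm (elem e) (elem e)) one = true := by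
    rw [sq_one_iff, ← h, ← Units.val_mul, show c * x * c⁻¹ * (c * x * c⁻¹) = c * (x * x) * c⁻¹ by group, h2]
    simp
  rw [scanOK, hsq, cond_true, Bool.or_eq_true] at hs
  rcases hs with h0 | hs
  · refine absurd ?_ h1
    rw [Nat.beq_eq] at h0
    rw [h0, elem_zero] at h
    exact conj_eq_one_iff.1 (Units.ext h)
  · obtain ⟨g, hg, eg⟩ := conj_spec hs
    refine ⟨invTag (aux e), Nat.lt_of_le_of_lt (Nat.and_le_right) (by norm_num), c⁻¹ * g,
      mul_mem (inv_mem hc) hg, ?_⟩
    rw [Units.val_mul, mul_assoc, eg, ← h, ← mul_assoc, ← mul_assoc, ← Units.val_mul, ← Units.val_mul,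
      ← Units.val_mul, ← Units.val_mul, show c⁻¹ * (c * x * c⁻¹) * g = x * (c⁻¹ * g) by group, mul_assoc]

/-- A square of order two is conjugate to the first representative. -/
theorem square_class {y : G28} (hy : y ∈ RG) (h4 : y * y * (y * y) = 1) (h2 : y * y ≠ 1) :
    ∃ g ∈ RG, (g : Mat) * dec Data.sMat = ((y * y : G28) : Mat) * (g : Mat) := by
  obtain ⟨c, hc, e, he, h⟩ := into_table hy (n := 2) (by
    rw [show (2 : ℕ) ^ 2 = 2 + 2 by norm_num, pow_add, pow_two, h4])
  have hs := scan_all e he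
  have hyy : ((c * (y * y) * c⁻¹ : G28) : Mat) = dec (mm (elem e) (elem e)) := by
    rw [show c * (y * y) * c⁻¹ = c * y * c⁻¹ * (c * y * c⁻¹) by group, Units.val_mul, h, dec_mm]
  have hne : Nat.beq (mm (elem e) (elem e)) one = false := by
    rw [← Bool.not_eq_true, sq_one_iff, ← dec_mm, ← hyy]
    exact fun h' => h2 (conj_eq_one_iff.1 (Units.ext h'))
  have hy4 : Nat.beq (mm (mm (elem e) (elem e)) (mm (elem e) (elem e))) one = true := by
    rw [Nat.beq_eq]
    refine dec_inj (mm_lt _ _) one_lt ?_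
    rw [dec_mm, ← hyy, ← Units.val_mul, dec_one,
      show c * (y * y) * c⁻¹ * (c * (y * y) * c⁻¹) = c * (y * y * (y * y)) * c⁻¹ by group, h4]
    simp
  rw [scanOK, hne, cond_false, hy4, cond_true] at hs
  simp only [Bool.and_eq_true, Bool.not_eq_true', Nat.beq_eq, Nat.blt_eq] at hs
  obtain ⟨⟨⟨hf, hf0⟩, hfe⟩, htag⟩ := hs
  have hs2 := scan_all _ hf
  have hfsq : Nat.beq (mm (elem (aux e)) (elem (aux e))) one = true := by rw [← hfe]; exact hy4
  rw [scanOK, hfsq, cond_true, hf0, Bool.false_or, htag] at hs2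
  obtain ⟨g, hg, eg⟩ := conj_spec hs2
  rw [← hfe, ← hyy, show repM 0 = Data.sMat from rfl] at eg
  refine ⟨c⁻¹ * g, mul_mem (inv_mem hc) hg, ?_⟩
  rw [Units.val_mul, mul_assoc, eg, ← mul_assoc, ← mul_assoc, ← Units.val_mul, ← Units.val_mul, ← Units.val_mul,
    ← Units.val_mul, show c⁻¹ * (c * y * y * c⁻¹) * g = y * y * (c⁻¹ * g) by group]

end CfsgLib.Sporadic.RuInv
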