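import Cfsg.Agent.Lib.Sporadic.RuInv.Monomial
import Cfsg.Agent.Lib.Sporadic.RuInv.Classes

/-!
# The involutions of the double cover of the Rudvalis group

The double cover is the derived group of the automorphism group of the lattice. Its involutions outside
the centre fall into two classes told apart by the trace; a square of order two has involutions above it.
-/

set_option autoImplicit false
set_option maxRecDepth 100000
set_option linter.style.haveILetI false

namespace CfsgLib.Sporadic.RuInv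

open Cfsg
open CfsgLib.Sporadic CfsgLib.Sporadic.RuLink
open CfsgLib.PGroups.NonabTwo.RuWitness (aElt jElt shiftElt)
open CfsgLib.Sporadic.RuMult (kElt coverMap)
open scoped commutatorElement

/-- The double cover. -/
abbrev Cov : Type := ↥(commutator ↥Spor.fourRu)

theorem ker_cases {z : Spor.fourRu} (hz : glHom z = 1) : z = 1 ∨ z = iEl ∨ z = negF ∨ z = negF * iEl := by
  have h : z ∈ Subgroup.zpowers iEl := ker_range.1 ▸ hz
  obtain ⟨m, hm, rfl⟩ : ∃ m < 4, iEl ^ m = z := by
    obtain ⟨k, rfl⟩ := Subgroup.mem_zpowers_iff.1 h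
    refine ⟨(k % 4).toNat, by omega, ?_⟩
    rw [← zpow_natCast, Int.toNat_of_nonneg (by omega)]
    conv_rhs => rw [← zpow_mod_orderOf]
    rw [order_iEl]
    rfl
  interval_cases m
  · exact Or.inl (pow_zero _)
  · exact Or.inr (Or.inl (pow_one _))
  · exact Or.inr (Or.inr (Or.inl rfl))
  · exact Or.inr (Or.inr (Or.inr (by rw [negF, ← pow_succ])))

theorem negF_mem : negF ∈ commutator Spor.fourRu := RuMult.iEl_sq_mem

theorem negF_sq : negF * negF = 1 := by rw [negF, ← pow_add, iEl_four]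

theorem negF_comm (g : Spor.fourRu) : negF * g = g * negF :=
  (Subgroup.mem_center_iff.1 (pow_mem (Subgroup.mem_center_iff.2 fun x => (iEl_central x).symm) 2) g).symm

theorem iEl_sq : iEl * iEl = negF := (sq iEl).symm

theorem sift_mem_range {m : RuMod.G28} (hm : m ∈ RuMod.RG) : ∃ h, glHom h = m := by
  rw [← ker_range.2] at hm
  exact hm

/-- A lift of a conjugate with the same square is a conjugate up to sign. -/
theorem lift_conj {x y : Spor.fourRu} {m : RuMod.G28} (hm : m ∈ RuMod.RG)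
    (e : (m : RuMod.Mat) * (glHom x : RuMod.Mat) = (glHom y : RuMod.Mat) * (m : RuMod.Mat))
    (hsq : y * y = x * x) (hcen : ∀ g, x * x * g = g * (x * x)) :
    ∃ h : Spor.fourRu, h * x * h⁻¹ = y ∨ h * x * h⁻¹ = negF * y := by
  obtain ⟨h, rfl⟩ := sift_mem_range hm
  refine ⟨h, ?_⟩
  have e' : glHom h * glHom x = glHom y * glHom h := Units.ext e
  obtain ⟨ζ, hζ, hxy⟩ : ∃ ζ, glHom ζ = 1 ∧ h * x * h⁻¹ = ζ * y := ⟨h * x * h⁻¹ * y⁻¹, by
    rw [map_mul, map_mul, map_mul, map_inv, map_inv, e', mul_inv_cancel_right, mul_inv_cancel], by group⟩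
  have hcz : ∀ g, ζ * g = g * ζ := fun g => by
    have : ζ ∈ Subgroup.center Spor.fourRu := by rw [center_eq_ker]; exact hζ
    exact (Subgroup.mem_center_iff.1 this g).symm
  have hζ2 : ζ * ζ = 1 := by
    have h1 : h * (x * x) * h⁻¹ = ζ * ζ * (y * y) := by
      calc h * (x * x) * h⁻¹ = (h * x * h⁻¹) * (h * x * h⁻¹) := by group
        _ = ζ * y * (ζ * y) := by rw [hxy]
        _ = ζ * (y * ζ) * y := by group
        _ = ζ * ζ * (y * y) := by rw [← hcz]; group
    rw [← hcen h, mul_inv_cancel_right, hsq] at h1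
    exact mul_eq_right.1 h1.symm
  rcases ker_cases hζ with rfl | rfl | rfl | rfl
  · exact Or.inl (by rw [hxy, one_mul])
  · exact absurd hζ2 (by rw [← sq]; exact iEl_two)
  · exact Or.inr hxy
  · refine absurd hζ2 ?_
    rw [mul_assoc, ← mul_assoc iEl, iEl_central negF, mul_assoc, ← mul_assoc negF, negF_sq, one_mul, ← sq]
    exact iEl_two

theorem named : (glHom sF : RuMod.Mat) = RuMod.dec Data.sMat ∧
    (∃ m ∈ RuMod.RG, (m : RuMod.Mat) * (glHom sF : RuMod.Mat) = (glHom aElt : RuMod.Mat) * (m : RuMod.Mat)) ∧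
    (∃ m ∈ RuMod.RG, (m : RuMod.Mat) * (glHom jElt : RuMod.Mat) = (glHom kElt : RuMod.Mat) * (m : RuMod.Mat)) ∧
    ∃ m ∈ RuMod.RG, (m : RuMod.Mat) * (glHom jElt : RuMod.Mat) = (glHom (jElt * kElt) : RuMod.Mat) * (m : RuMod.Mat) := by
  have h := named_ok
  simp only [namedOK, Bool.and_eq_true, Nat.beq_eq] at h
  obtain ⟨⟨⟨hs, hA⟩, hK⟩, hL⟩ := h
  have es : (glHom sF : RuMod.Mat) = RuMod.dec Data.sMat := by
    simp only [sF, map_mul, Units.val_mul, mat_A, mat_J, ← RuMod.dec_mm]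
    rw [hs]
  refine ⟨es, ?_, ?_, ?_⟩
  · rw [es, mat_A]; exact conj_spec hA
  · rw [mat_J, mat_K]; exact conj_spec hK
  · rw [map_mul, Units.val_mul, mat_J, mat_K, ← RuMod.dec_mm]; exact conj_spec hL

theorem conj_mem_iff (h x : Spor.fourRu) : h * x * h⁻¹ ∈ commutator Spor.fourRu ↔ x ∈ commutator Spor.fourRu :=
  ⟨fun hh => by
    have := (inferInstance : (commutator Spor.fourRu).Normal).conj_mem _ hh h⁻¹
    rwa [show h⁻¹ * (h * x * h⁻¹) * h⁻¹⁻¹ = x by group] at this,
    fun hx => (inferInstance : (commutator Spor.fourRu).Normal).conj_mem _ hx h⟩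

theorem mem_of_neg {x : Spor.fourRu} (h : negF * x ∈ commutator Spor.fourRu) : x ∈ commutator Spor.fourRu := by
  have := mul_mem negF_mem h
  rwa [← mul_assoc, negF_sq, one_mul] at this

theorem jk_mem : jElt * kElt ∈ commutator Spor.fourRu := by
  obtain ⟨-, -, ⟨m, hm, e⟩, -⟩ := named
  obtain ⟨h, hh⟩ := lift_conj hm e (kElt_sq.trans jElt_sq.symm) fun g => by rw [jElt_sq]; exact negF_comm g
  have hc : h * jElt * h⁻¹ * jElt⁻¹ ∈ commutator Spor.fourRu := by
    have := RuMult.commutatorElement_mem h jElt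
    rwa [commutatorElement_def] at this
  have hj : jElt⁻¹ = negF * jElt := inv_eq_of_mul_eq_one_right (by
    rw [← mul_assoc, ← negF_comm, mul_assoc, jElt_sq, negF_sq])
  have hkj : kElt * jElt = negF * (jElt * kElt) := by
    have e2 : ⁅jElt, kElt⁆ = negF := RuMult.quaternion
    calc kElt * jElt = negF * (negF * (kElt * jElt)) := by rw [← mul_assoc, negF_sq, one_mul]
      _ = negF * (⁅jElt, kElt⁆ * (kElt * jElt)) := by rw [e2]
      _ = negF * (jElt * kElt) := by rw [commutatorElement_def]; group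
  rcases hh with hh | hh <;> rw [hh, hj] at hc
  · rw [← mul_assoc, ← negF_comm, mul_assoc, hkj, ← mul_assoc, negF_sq, one_mul] at hc
    exact hc
  · rw [mul_assoc, ← mul_assoc kElt, ← negF_comm, mul_assoc negF kElt, hkj, ← mul_assoc negF negF, negF_sq,
      one_mul] at hc
    exact mem_of_neg hc

theorem j_mem : jElt ∈ commutator Spor.fourRu := by
  obtain ⟨-, -, -, ⟨m, hm, e⟩⟩ := named
  have hkj : jElt * kElt * (jElt * kElt) = negF := by
    have e2 : jElt * kElt = negF * (kElt * jElt) := by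
      rw [← show ⁅jElt, kElt⁆ = negF from RuMult.quaternion, commutatorElement_def]; group
    calc jElt * kElt * (jElt * kElt) = jElt * kElt * (negF * (kElt * jElt)) := by rw [← e2]
      _ = negF * (jElt * (kElt * kElt) * jElt) := by rw [← mul_assoc, ← negF_comm]; group
      _ = negF * (jElt * jElt) * negF := by rw [kElt_sq, mul_assoc jElt, negF_comm jElt]; group
      _ = negF := by rw [jElt_sq, negF_sq, one_mul]
  obtain ⟨h, hh⟩ := lift_conj hm e (hkj.trans jElt_sq.symm) fun g => by rw [jElt_sq]; exact negF_comm g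
  rcases hh with hh | hh
  · exact (conj_mem_iff h jElt).1 (hh ▸ jk_mem)
  · exact (conj_mem_iff h jElt).1 (hh ▸ mul_mem negF_mem jk_mem)

theorem k_mem : kElt ∈ commutator Spor.fourRu := by
  have := mul_mem (inv_mem j_mem) jk_mem
  rwa [inv_mul_cancel_left] at this

theorem jElt_inv : jElt⁻¹ = negF * jElt := inv_eq_of_mul_eq_one_right (by
  rw [← mul_assoc, ← negF_comm, mul_assoc, jElt_sq, negF_sq])

theorem sF_mem : sF ∈ commutator Spor.fourRu := by
  have h1 : ⁅aElt, jElt⁆ = negF * sF := by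
    rw [commutatorElement_def, show aElt⁻¹ = aElt from inv_eq_of_mul_eq_one_right aElt_sq, jElt_inv,
      ← mul_assoc, ← negF_comm, sF]
    group
  exact mem_of_neg (h1 ▸ RuMult.commutatorElement_mem _ _)

theorem a_mem : aElt ∈ commutator Spor.fourRu := by
  obtain ⟨-, ⟨m, hm, e⟩, -, -⟩ := named
  obtain ⟨h, hh⟩ := lift_conj hm e (aElt_sq.trans sF_sq.symm) fun g => by rw [sF_sq, one_mul, mul_one]
  rcases hh with hh | hh
  · exact hh ▸ (conj_mem_iff h sF).2 sF_mem
  · exact mem_of_neg (hh ▸ (conj_mem_iff h sF).2 sF_mem)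

theorem sF'_mem : sF' ∈ commutator Spor.fourRu := (conj_mem_iff _ _).2 sF_mem

/-- Minus one in the double cover. -/
noncomputable def zC : Cov := ⟨negF, negF_mem⟩

def sC : Cov := ⟨sF, sF_mem⟩

def sC' : Cov := ⟨sF', sF'_mem⟩

def aC : Cov := ⟨aElt, a_mem⟩

def jC : Cov := ⟨jElt, j_mem⟩

def kC : Cov := ⟨kElt, k_mem⟩

theorem zC_sq : zC * zC = 1 := Subtype.ext negF_sq

theorem zC_ne : zC ≠ 1 := fun e => iEl_two (congrArg Subtype.val e)

theorem zC_comm (a : Cov) : a * zC = zC * a := Subtype.ext (negF_comm a.1).symm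

/-- The trace, times four. -/
def trC (a : Cov) : GaussianInt := tr a.1

theorem trC_conj (a g : Cov) : trC (g * a * g⁻¹) = trC a := tr_conj a.1 g.1

theorem trC_neg (a : Cov) : trC (zC * a) = -trC a := tr_neg a.1

/-- The projection. -/
noncomputable def proj : Cov →* RuMod.RG := coverMap

theorem proj_surj : Function.Surjective proj := RuMult.coverMap_stem.1

theorem proj_val (a : Cov) : ((proj a : RuMod.RG) : RuMod.G28) = glHom a.1 := rfl

theorem proj_eq_one {a : Cov} (h : proj a = 1) : a = 1 ∨ a = zC := by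
  haveI := RuMult.finite_cover
  have h1 : (⟨zC, Subtype.ext RuMult.glHom_iEl_sq⟩ : proj.ker) ≠ 1 := fun e => zC_ne (congrArg Subtype.val e)
  obtain ⟨x, y, hxy, huniv⟩ := Nat.card_eq_two_iff.1 (RuMult.card_coverMap_ker)
  have hall : ∀ w : proj.ker, w = 1 ∨ w = ⟨zC, Subtype.ext RuMult.glHom_iEl_sq⟩ := by
    intro w
    have hw : ∀ v : proj.ker, v = x ∨ v = y := fun v => by
      have : v ∈ ({x, y} : Set proj.ker) := huniv ▸ Set.mem_univ v
      exact this
    rcases hw w with rfl | rfl <;> rcases hw 1 with e1 | e1 <;>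
      rcases hw ⟨zC, Subtype.ext RuMult.glHom_iEl_sq⟩ with e2 | e2 <;>
      first | exact Or.inl e1.symm | exact Or.inr e2.symm | exact absurd (e2.trans e1.symm) h1
  rcases hall ⟨a, h⟩ with e | e
  · exact Or.inl (congrArg Subtype.val e)
  · exact Or.inr (congrArg Subtype.val e)

theorem proj_z : proj zC = 1 := Subtype.ext RuMult.glHom_iEl_sq

/-- A conjugate below gives a conjugate up to sign. -/
theorem conj_lift {a b : Cov} {g : RuMod.RG} (h : g * proj a * g⁻¹ = proj b) :
    ∃ c : Cov, c * a * c⁻¹ = b ∨ c * a * c⁻¹ = zC * b := by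
  obtain ⟨c, rfl⟩ := proj_surj g
  refine ⟨c, ?_⟩
  rw [← map_mul, ← map_inv, ← map_mul, ← mul_inv_eq_one, ← map_inv, ← map_mul] at h
  rcases proj_eq_one h with e | e
  · exact Or.inl (mul_inv_eq_one.1 e)
  · exact Or.inr (mul_inv_eq_iff_eq_mul.1 e)

/-- An involution outside the centre. -/
def NInv (a : Cov) : Prop := a * a = 1 ∧ a ≠ 1 ∧ a ≠ zC

theorem rep_conj {x : RuMod.RG} {k : ℕ} (g : RuMod.G28) (hg : g ∈ RuMod.RG) (hk : k < 2)
    (e : (g : RuMod.Mat) * RuMod.dec (repM k) = ((x : RuMod.G28) : RuMod.Mat) * (g : RuMod.Mat)) :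
    (k = 0 → (⟨g, hg⟩ : RuMod.RG) * proj sC * (⟨g, hg⟩ : RuMod.RG)⁻¹ = x) ∧
      (k = 1 → (⟨g, hg⟩ : RuMod.RG) * proj jC * (⟨g, hg⟩ : RuMod.RG)⁻¹ = x) := by
  have key : ∀ c : Cov, (glHom c.1 : RuMod.Mat) = RuMod.dec (repM k) →
      (⟨g, hg⟩ : RuMod.RG) * proj c * (⟨g, hg⟩ : RuMod.RG)⁻¹ = x := fun c hc =>
    mul_inv_eq_iff_eq_mul.2 (Subtype.ext (Units.ext (by
      show (g : RuMod.Mat) * (glHom c.1 : RuMod.Mat) = _
      rw [hc]; exact e)))
  constructor
  · rintro rfl; exact key sC named.1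
  · rintro rfl; exact key jC mat_J

/-- Every involution outside the centre is conjugate to the sign change or to its negative. -/
theorem ninv_class {a : Cov} (ha : NInv a) : ∃ c : Cov, c * sC * c⁻¹ = a ∨ c * sC * c⁻¹ = zC * a := by
  have hp1 : proj a ≠ 1 := fun h => (proj_eq_one h).elim ha.2.1 ha.2.2
  obtain ⟨k, hk, g, hg, e⟩ := invol_class (x := (proj a : RuMod.G28)) (proj a).2
    (by rw [← Subgroup.coe_mul, ← map_mul, ha.1, map_one]; rfl) fun h => hp1 (Subtype.ext h)
  obtain ⟨h0, h1⟩ := rep_conj g hg hk e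
  interval_cases k
  · exact conj_lift (h0 rfl)
  · obtain ⟨c, hc⟩ := conj_lift (h1 rfl)
    have hjj : jC * jC = zC := Subtype.ext jElt_sq
    have hne : c * (jC * jC) * c⁻¹ = 1 := by
      rw [show c * (jC * jC) * c⁻¹ = (c * jC * c⁻¹) * (c * jC * c⁻¹) by group]
      rcases hc with hc | hc <;> rw [hc]
      · exact ha.1
      · rw [mul_assoc, ← mul_assoc a, zC_comm, mul_assoc zC a, ha.1, mul_one, zC_sq]
    rw [hjj] at hne
    exact absurd (conj_eq_one_iff.1 hne) zC_ne

/-- Involutions outside the centre with the same trace are conjugate. -/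
theorem conj_of_trC {a b : Cov} (ha : NInv a) (hb : NInv b) (h : trC a = trC b) : ∃ g : Cov, g * a * g⁻¹ = b := by
  have key : ∀ {a : Cov}, NInv a → ∃ c : Cov, (c * sC * c⁻¹ = a ∧ trC a = -16) ∨
      (c * (zC * sC) * c⁻¹ = a ∧ trC a = 16) := by
    intro a ha
    obtain ⟨c, hc | hc⟩ := ninv_class ha
    · exact ⟨c, Or.inl ⟨hc, by rw [← hc, trC_conj]; exact tr_sF⟩⟩
    · refine ⟨c, Or.inr ?_⟩
      have e : c * (zC * sC) * c⁻¹ = a := by
        rw [← mul_assoc, zC_comm c, mul_assoc zC, mul_assoc zC, hc, ← mul_assoc, zC_sq, one_mul]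
      refine ⟨e, ?_⟩
      rw [← e, trC_conj, trC_neg, show trC sC = -16 from tr_sF, neg_neg]
  obtain ⟨c, ⟨hc, tc⟩ | ⟨hc, tc⟩⟩ := key ha <;> obtain ⟨d, ⟨hd, td⟩ | ⟨hd, td⟩⟩ := key hb
  · exact ⟨d * c⁻¹, by rw [← hc, ← hd]; group⟩
  · exact absurd (tc.symm.trans (h.trans td)) (by decide)
  · exact absurd (tc.symm.trans (h.trans td)) (by decide)
  · exact ⟨d * c⁻¹, by rw [← hc, ← hd]; group⟩

theorem trC_values {a : Cov} (ha : NInv a) : trC a = -16 ∨ trC a = 16 := by
  obtain ⟨c, hc | hc⟩ := ninv_class ha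
  · exact Or.inl (by rw [← hc, trC_conj]; exact tr_sF)
  · refine Or.inr ?_
    rw [← neg_neg (trC a), ← trC_neg, ← hc, trC_conj, show trC sC = -16 from tr_sF, neg_neg]

/-- An element above a square of order two is an involution. -/
theorem sq_of_root {a α : Cov} (ha : a * a = 1 ∨ a * a = zC) (h1 : a ≠ 1) (hz : a ≠ zC)
    (hroot : proj a = proj α * proj α) : a * a = 1 := by
  have hp1 : proj a ≠ 1 := fun h => (proj_eq_one h).elim h1 hz
  have hp2 : proj a * proj a = 1 := by
    rw [← map_mul]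
    rcases ha with h | h <;> rw [h]
    · exact map_one _
    · exact proj_z
  obtain ⟨g, hg, e⟩ := square_class (y := (proj α : RuMod.G28)) (proj α).2
    (by rw [← Subgroup.coe_mul, ← Subgroup.coe_mul, ← hroot, hp2]; rfl)
    (by rw [← Subgroup.coe_mul, ← hroot]; exact fun h => hp1 (Subtype.ext h))
  have h0 := (rep_conj (x := proj a) (k := 0) g hg (by norm_num) (by rw [hroot, Subgroup.coe_mul]; exact e)).1 rfl
  obtain ⟨c, hc | hc⟩ := conj_lift h0
  · rw [← hc, show c * sC * c⁻¹ * (c * sC * c⁻¹) = c * (sC * sC) * c⁻¹ by group,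
      show sC * sC = 1 from Subtype.ext sF_sq, mul_one, mul_inv_cancel]
  · have e2 : a = zC * (c * sC * c⁻¹) := by rw [hc, ← mul_assoc, zC_sq, one_mul]
    rw [e2, mul_assoc, ← mul_assoc (c * sC * c⁻¹) zC, zC_comm, mul_assoc zC (c * sC * c⁻¹),
      show c * sC * c⁻¹ * (c * sC * c⁻¹) = c * (sC * sC) * c⁻¹ by group,
      show sC * sC = 1 from Subtype.ext sF_sq, mul_one, mul_inv_cancel, mul_one, zC_sq]

theorem jC_sC : Commute jC sC := by
  refine Subtype.ext ?_
  show jElt * sF = sF * jElt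
  have hA : aElt⁻¹ = aElt := inv_eq_of_mul_eq_one_right aElt_sq
  have h2 : sF = jElt⁻¹ * aElt * jElt⁻¹ * aElt := by
    rw [← inv_eq_of_mul_eq_one_right sF_sq, sF, mul_inv_rev, mul_inv_rev, hA]
    group
  have h3 : jElt⁻¹ * aElt * jElt⁻¹ * aElt = jElt * aElt * jElt * aElt := by
    rw [jElt_inv, show negF * jElt * aElt * (negF * jElt) * aElt = negF * (jElt * aElt * negF) * jElt * aElt by group,
      ← negF_comm (jElt * aElt), ← mul_assoc negF negF, negF_sq, one_mul]
  calc jElt * sF = jElt * aElt * jElt * aElt * jElt := by rw [sF]; group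
    _ = sF * jElt := by rw [← h3, ← h2]

/-- A witness: two elements centralising an involution whose commutator is minus one. -/
theorem exists_witness {a : Cov} (ha : NInv a) : ∃ b₁ b₂ : Cov, Commute b₁ a ∧ Commute b₂ a ∧ ⁅b₁, b₂⁆ = zC := by
  have base : Commute jC sC ∧ Commute kC sC ∧ ⁅jC, kC⁆ = zC :=
    ⟨jC_sC, Subtype.ext kElt_sF, Subtype.ext RuMult.quaternion⟩
  obtain ⟨c, hc⟩ := ninv_class ha
  refine ⟨c * jC * c⁻¹, c * kC * c⁻¹, ?_⟩
  have hs : ∀ b, Commute b sC → Commute (c * b * c⁻¹) a := fun b hb => by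
    have h1 : Commute (c * b * c⁻¹) (c * sC * c⁻¹) := hb.map (MulAut.conj c).toMonoidHom
    rcases hc with hc | hc <;> rw [hc] at h1
    · exact h1
    · have h2 : Commute (c * b * c⁻¹) (zC * (zC * a)) := (show Commute (c * b * c⁻¹) zC from zC_comm _).mul_right h1
      rwa [← mul_assoc, zC_sq, one_mul] at h2
  refine ⟨hs _ base.1, hs _ base.2.1, ?_⟩
  have h := map_commutatorElement (MulAut.conj c).toMonoidHom jC kC
  simp only [MulEquiv.toMonoidHom_eq_coe, MonoidHom.coe_coe, MulAut.conj_apply] at h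
  rw [← h, base.2.2, zC_comm c, mul_inv_cancel_right]

theorem ninv_of_tr {a : Cov} (h2 : a * a = 1) (ht : trC a = -16 ∨ trC a = 16) : NInv a := by
  have h1 : trC 1 = 112 := tr_one
  have hz : trC zC = -112 := by rw [← mul_one zC, trC_neg, h1]
  refine ⟨h2, fun e => ?_, fun e => ?_⟩
  · rw [e, h1] at ht; exact absurd ht (by decide)
  · rw [e, hz] at ht; exact absurd ht (by decide)

/-- The commuting pairs used against the three possible sets of classes. -/
theorem configurations :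
    (trC sC = -16 ∧ trC sC' = -16 ∧ trC (sC * sC') = -16 ∧ Commute sC sC' ∧ NInv sC ∧ NInv sC' ∧ NInv (sC * sC') ∧
      sC ≠ sC') ∧
    (trC (zC * sC) = 16 ∧ trC aC = 16 ∧ trC (zC * sC * aC) = 16 ∧ Commute (zC * sC) aC ∧ NInv (zC * sC) ∧ NInv aC ∧
      NInv (zC * sC * aC) ∧ zC * sC ≠ aC) ∧
    jC * (zC * sC) * jC⁻¹ = zC * sC ∧ jC * aC * jC⁻¹ = zC * sC * aC := by
  have s2 : sC * sC = 1 := Subtype.ext sF_sq
  have a2 : aC * aC = 1 := Subtype.ext aElt_sq
  have s'2 : sC' * sC' = 1 := Subtype.ext (show shiftElt * sF * shiftElt⁻¹ * (shiftElt * sF * shiftElt⁻¹) = 1 by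
    rw [show shiftElt * sF * shiftElt⁻¹ * (shiftElt * sF * shiftElt⁻¹) = shiftElt * (sF * sF) * shiftElt⁻¹ by group,
      sF_sq, mul_one, mul_inv_cancel])
  have hss : Commute sC sC' := Subtype.ext sF_comm_sF'
  have hsa : Commute sC aC := by
    refine Subtype.ext ?_
    show sF * aElt = aElt * sF
    have h2 : sF = jElt * aElt * jElt * aElt := by
      have h := jC_sC
      have e : jElt * sF = sF * jElt := congrArg Subtype.val h.eq
      calc sF = jElt * sF * jElt⁻¹ := by rw [e, mul_inv_cancel_right]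
        _ = _ := by rw [sF]; group
    calc sF * aElt = jElt * aElt * jElt * (aElt * aElt) := by rw [h2]; group
      _ = aElt * aElt * (jElt * (aElt * jElt)) := by rw [aElt_sq, mul_one, one_mul, mul_assoc]
      _ = aElt * sF := by rw [sF]; group
  have t1 : trC sC = -16 := tr_sF
  have t2 : trC sC' = -16 := (tr_conj sF shiftElt).trans tr_sF
  have t3 : trC (sC * sC') = -16 := tr_sF_sF'
  have t4 : trC (zC * sC) = 16 := by rw [trC_neg, t1, neg_neg]
  have t5 : trC aC = 16 := tr_aElt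
  have t6 : trC (zC * sC * aC) = 16 := by
    rw [mul_assoc, trC_neg, show trC (sC * aC) = -16 from tr_sF_aElt, neg_neg]
  have hzs : zC * sC * (zC * sC) = 1 := by
    rw [mul_assoc, ← mul_assoc sC, zC_comm sC, mul_assoc zC sC, s2, mul_one, zC_sq]
  have hca : Commute (zC * sC) aC := (show Commute zC aC from (zC_comm aC).symm).mul_left hsa
  refine ⟨⟨t1, t2, t3, hss, ninv_of_tr s2 (Or.inl t1), ninv_of_tr s'2 (Or.inl t2), ninv_of_tr ?_ (Or.inl t3), ?_⟩,
    ⟨t4, t5, t6, hca, ninv_of_tr hzs (Or.inr t4), ninv_of_tr a2 (Or.inr t5), ninv_of_tr ?_ (Or.inr t6), ?_⟩, ?_, ?_⟩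
  · rw [Commute.mul_mul_mul_comm (b := sC') (c := sC) hss.symm, s2, s'2, one_mul]
  · intro e
    rw [← e, s2, show trC 1 = 112 from tr_one] at t3
    exact absurd t3 (by decide)
  · rw [Commute.mul_mul_mul_comm (b := aC) (c := zC * sC) hca.symm, hzs, a2, one_mul]
  · intro e
    rw [e, a2, show trC 1 = 112 from tr_one] at t6
    exact absurd t6 (by decide)
  · rw [← mul_assoc, zC_comm, mul_assoc zC, jC_sC.eq, ← mul_assoc, mul_inv_cancel_right]
  · refine Subtype.ext ?_
    show jElt * aElt * jElt⁻¹ = negF * sF * aElt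
    have e : jElt * sF = sF * jElt := congrArg Subtype.val jC_sC.eq
    have h2 : sF = jElt * aElt * jElt * aElt := by
      calc sF = jElt * sF * jElt⁻¹ := by rw [e, mul_inv_cancel_right]
        _ = _ := by rw [sF]; group
    rw [h2, jElt_inv, ← mul_assoc, ← negF_comm (jElt * aElt), mul_assoc negF (jElt * aElt * jElt * aElt),
      mul_assoc (jElt * aElt * jElt) aElt, aElt_sq, mul_one, mul_assoc]

end CfsgLib.Sporadic.RuInv
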