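import Cfsg.Agent.Lib.Sporadic.RuMult.Cover
import Cfsg.Agent.Lib.Sporadic.RuInv.Data

/-!
# Monomial automorphisms of the Rudvalis lattice: images modulo `1 + i` and traces
-/

set_option autoImplicit false
set_option maxRecDepth 100000
set_option maxHeartbeats 1000000

namespace CfsgLib.Sporadic.RuInv

open Cfsg Finset
open CfsgLib.Sporadic CfsgLib.Sporadic.RuLink
open CfsgLib.PGroups.NonabTwo.RuWitness (aElt aV jElt shiftElt shiftBack single_four_mem)
open CfsgLib.Sporadic.RuMult (kElt)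

/-- The reduction of a map from the images of the basis. -/
theorem mat_of_images (g : Spor.fourRu) (img : List Code) (tab : List ℕ) (M : ℕ)
    (hb : ∀ k : Fin 28, (act g (basisVec k) : Spor.RuVec) = cvec (img.getD k (0, 0, 0)))
    (hphi : ∀ k i : Fin 28, phiC (img.getD k (0, 0, 0)) i = mbit tab k i)
    (hmat : ∀ j i : Fin 28, (∑ k : Fin 28, mbit Data.unitSel i k * mbit tab k j) =
      bb (M.testBit (28 * j.val + i.val))) : matOf g = RuMod.dec M := by
  ext j i
  show phiL (act g (unitVec i)) j = bb _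
  let A : LV →+ (Fin 28 → ZMod 2) := phiL.comp (AddMonoidHom.mk' (act g) (act_add g))
  show A (unitVec i) j = _
  rw [unitVec, map_sum, Finset.sum_apply, ← hmat j i, sum_filter]
  refine sum_congr rfl fun k _ => ?_
  have e : A (basisVec k) j = mbit tab k j := by
    show phi (act g (basisVec k) : Spor.RuVec) j = _
    rw [hb, ← phiC_eq, hphi]
  rw [e, mbit, bb]
  split_ifs <;> simp_all [bb, mbit]

theorem img_A : ∀ k : Fin 28, ∀ p : Spor.RuIdx, aV (cvec (basisB k)) p = cvec (RuInv.Data.imgA.getD k (0, 0, 0)) p := by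
  decide +kernel

theorem img_J : ∀ k : Fin 28, ∀ p : Spor.RuIdx,
    Spor.ruRj (cvec (basisB k)) p = cvec (RuInv.Data.imgJ.getD k (0, 0, 0)) p := by
  decide +kernel

theorem img_K : ∀ k : Fin 28, ∀ p : Spor.RuIdx,
    Spor.ruRk (cvec (basisB k)) p = cvec (RuInv.Data.imgK.getD k (0, 0, 0)) p := by
  decide +kernel

theorem phi_A : ∀ k i : Fin 28, phiC (RuInv.Data.imgA.getD k (0, 0, 0)) i = mbit RuInv.Data.phiA k i := by
  decide +kernel

theorem phi_J : ∀ k i : Fin 28, phiC (RuInv.Data.imgJ.getD k (0, 0, 0)) i = mbit RuInv.Data.phiJ k i := by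
  decide +kernel

theorem phi_K : ∀ k i : Fin 28, phiC (RuInv.Data.imgK.getD k (0, 0, 0)) i = mbit RuInv.Data.phiK k i := by
  decide +kernel

theorem mat_A : (glHom aElt : RuMod.Mat) = RuMod.dec RuInv.Data.aMat :=
  mat_of_images aElt _ _ _ (fun k => funext (img_A k)) phi_A (by decide +kernel)

theorem mat_J : (glHom jElt : RuMod.Mat) = RuMod.dec RuInv.Data.jMat :=
  mat_of_images jElt _ _ _ (fun k => funext (img_J k)) phi_J (by decide +kernel)

theorem mat_K : (glHom kElt : RuMod.Mat) = RuMod.dec RuInv.Data.kMat :=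
  mat_of_images kElt _ _ _ (fun k => funext (img_K k)) phi_K (by decide +kernel)

/-! ### The trace -/

/-- Four times a unit vector. -/
def eVec (q : Spor.RuIdx) : LV := ⟨Pi.single q ⟨4, 0⟩, (single_four_mem q.1 q.2).1⟩

/-- The matrix of an automorphism, multiplied by four. -/
def mx (g : Spor.fourRu) : Matrix Spor.RuIdx Spor.RuIdx GaussianInt :=
  Matrix.of fun r q => (act g (eVec q) : Spor.RuVec) r

/-- Four times the trace. -/
def tr (g : Spor.fourRu) : GaussianInt := ∑ p, (act g (eVec p) : Spor.RuVec) p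

theorem tr_eq (g : Spor.fourRu) : tr g = (mx g).trace := rfl

theorem four_act (g : Spor.fourRu) (v : LV) (r : Spor.RuIdx) :
    4 * (act g v : Spor.RuVec) r = ∑ p, mx g r p * (v : Spor.RuVec) p := by
  let F : LV →+ LV := AddMonoidHom.mk' (act g) (act_add g)
  have hI : ∀ w : LV, ((Spor.ruI w : LV) : Spor.RuVec) = Spor.gI • (w : Spor.RuVec) := fun _ => rfl
  have hv : (4 : ℤ) • v = ∑ p, (((v : Spor.RuVec) p).re • eVec p + ((v : Spor.RuVec) p).im • Spor.ruI (eVec p)) := by
    refine Subtype.ext (funext fun q => ?_)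
    simp only [AddSubgroup.coe_zsmul, AddSubmonoidClass.coe_finsetSum, AddSubgroup.coe_add, hI, Pi.smul_apply,
      Finset.sum_apply, Pi.add_apply]
    rw [sum_eq_single q]
    · simp only [eVec, Pi.single_eq_same, Zsqrtd.ext_iff]
      constructor <;> simp [Spor.gI] <;> ring
    · intro p _ hp; simp [eVec, Pi.single_eq_of_ne (Ne.symm hp)]
    · simp
  have h := congrArg F hv
  rw [map_zsmul, map_sum] at h
  simp only [map_add, map_zsmul] at h
  have h' := congrArg (fun w : LV => (w : Spor.RuVec) r) h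
  simp only [AddSubgroup.coe_zsmul, AddSubmonoidClass.coe_finsetSum, AddSubgroup.coe_add, Pi.smul_apply,
    Finset.sum_apply, Pi.add_apply] at h'
  rw [show (4 : GaussianInt) * (act g v : Spor.RuVec) r = (4 : ℤ) • (F v : Spor.RuVec) r by
    rw [zsmul_eq_mul]; norm_num; rfl, h']
  refine sum_congr rfl fun p _ => ?_
  have e : (F (Spor.ruI (eVec p)) : Spor.RuVec) r = Spor.gI * (act g (eVec p) : Spor.RuVec) r := by
    show (act g (Spor.ruI (eVec p)) : Spor.RuVec) r = _
    rw [act_ruI, hI]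
    rfl
  rw [e, show (F (eVec p) : Spor.RuVec) r = (act g (eVec p) : Spor.RuVec) r from rfl, mx, Matrix.of_apply]
  simp only [Zsqrtd.ext_iff]
  constructor <;> simp [Spor.gI] <;> ring

theorem mx_mul (g h : Spor.fourRu) : (4 : GaussianInt) • mx (g * h) = mx g * mx h := by
  ext r q
  · simpa [Matrix.mul_apply, mx, act_mul] using congrArg Zsqrtd.re (four_act g (act h (eVec q)) r)
  · simpa [Matrix.mul_apply, mx, act_mul] using congrArg Zsqrtd.im (four_act g (act h (eVec q)) r)

theorem tr_comm (g h : Spor.fourRu) : tr (g * h) = tr (h * g) := by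
  have e : (4 : GaussianInt) • tr (g * h) = (4 : GaussianInt) • tr (h * g) := by
    rw [tr_eq, tr_eq, ← Matrix.trace_smul, ← Matrix.trace_smul, mx_mul, mx_mul, Matrix.trace_mul_comm]
  exact mul_left_cancel₀ (by decide : (4 : GaussianInt) ≠ 0) e

theorem tr_conj (g h : Spor.fourRu) : tr (h * g * h⁻¹) = tr g := by
  rw [tr_comm, ← mul_assoc, inv_mul_cancel, one_mul]

/-- Minus one. -/
noncomputable def negF : Spor.fourRu := iEl ^ 2

theorem act_negF (v : LV) : (act negF v : Spor.RuVec) = -(v : Spor.RuVec) := by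
  rw [negF, sq, act_mul, act_iEl, act_iEl]
  exact gI_gI _

theorem tr_neg (g : Spor.fourRu) : tr (negF * g) = -tr g := by
  rw [tr, tr, ← sum_neg_distrib]
  refine sum_congr rfl fun p _ => ?_
  rw [act_mul, act_negF]
  rfl

/-- The square of the product of the two monomial maps: a sign change. -/
def sF : Spor.fourRu := aElt * jElt * (aElt * jElt)

/-- Its conjugate under the shift. -/
def sF' : Spor.fourRu := shiftElt * sF * shiftElt⁻¹

theorem act_sF (v : LV) (p : Spor.RuIdx) : (act sF v : Spor.RuVec) p =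
    if p.1 = 0 ∨ p.1 = 2 ∨ p.1 = 3 ∨ p.1 = 4 then -(v : Spor.RuVec) p else (v : Spor.RuVec) p :=
  CfsgLib.PGroups.NonabTwo.RuWitness.prod_sq v.1 p

theorem act_sF' (v : LV) (p : Spor.RuIdx) : (act sF' v : Spor.RuVec) p =
    if p.1 + 1 = 0 ∨ p.1 + 1 = 2 ∨ p.1 + 1 = 3 ∨ p.1 + 1 = 4 then -(v : Spor.RuVec) p else (v : Spor.RuVec) p := by
  obtain ⟨n, t⟩ := p
  show (act sF (act shiftElt⁻¹ v) : Spor.RuVec) (n + 1, t) = _
  rw [act_sF]
  have e : (act shiftElt⁻¹ v : Spor.RuVec) (n + 1, t) = (v : Spor.RuVec) (n, t) := by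
    show (v : Spor.RuVec) (n + 1 - 1, t) = _
    rw [add_sub_cancel_right]
  rw [e]

theorem tr_one : tr 1 = 112 := by
  show (∑ p : Spor.RuIdx, (Pi.single p (⟨4, 0⟩ : GaussianInt) : Spor.RuVec) p) = _
  decide +kernel

theorem tr_sF : tr sF = -16 := by
  show (∑ p : Spor.RuIdx, aV (Spor.ruRj (aV (Spor.ruRj (Pi.single p (⟨4, 0⟩ : GaussianInt))))) p) = _
  decide +kernel

theorem tr_aElt : tr aElt = 16 := by
  show (∑ p : Spor.RuIdx, aV (Pi.single p (⟨4, 0⟩ : GaussianInt)) p) = _
  decide +kernel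

theorem tr_sF_aElt : tr (sF * aElt) = -16 := by
  show (∑ p : Spor.RuIdx, aV (Spor.ruRj (aV (Spor.ruRj (aV (Pi.single p (⟨4, 0⟩ : GaussianInt)))))) p) = _
  decide +kernel

theorem tr_sF_sF' : tr (sF * sF') = -16 := by
  show (∑ p : Spor.RuIdx, aV (Spor.ruRj (aV (Spor.ruRj
    (Spor.ruShift (aV (Spor.ruRj (aV (Spor.ruRj (shiftBack (Pi.single p (⟨4, 0⟩ : GaussianInt))))))))))) p) = _
  decide +kernel

theorem sF_sq : sF * sF = 1 := act_ext fun v => Subtype.ext (funext fun p => by
  rw [act_mul, act_one, act_sF, act_sF]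
  split_ifs <;> simp)

theorem sF_comm_sF' : sF * sF' = sF' * sF := act_ext fun v => Subtype.ext (funext fun p => by
  rw [act_mul, act_mul, act_sF, act_sF', act_sF', act_sF]
  split_ifs <;> simp)

theorem kElt_sF : kElt * sF = sF * kElt := act_ext fun v => Subtype.ext (funext fun ⟨n, t⟩ => by
  rw [act_mul, act_mul, act_sF]
  show Spor.ruRk (act sF v : Spor.RuVec) (n, t) = _
  fin_cases t <;> simp only [Spor.ruRk, act_sF] <;> split_ifs <;> simp [act, kElt,
    CfsgLib.PGroups.NonabTwo.RuWitness.mkEquiv, Spor.ruRk])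

theorem jElt_sq : jElt * jElt = negF := act_ext fun v => Subtype.ext (by
  rw [act_negF]; exact CfsgLib.PGroups.NonabTwo.RuWitness.Rj_Rj v.1)

theorem kElt_sq : kElt * kElt = negF := act_ext fun v => Subtype.ext (by
  rw [act_negF]; exact RuMult.Rk_Rk v.1)

theorem aElt_sq : aElt * aElt = 1 :=
  act_ext fun v => Subtype.ext (CfsgLib.PGroups.NonabTwo.RuWitness.aV_invol v.1)

end CfsgLib.Sporadic.RuInv
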