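import Cfsg.Agent.Lib.Sporadic.RuInv.Data
import Cfsg.Agent.Lib.Sporadic.RuLevels

/-!
# Tests of a Sylow 2-subgroup of the Rudvalis group and of the classes of its involutions
-/

set_option autoImplicit false

namespace CfsgLib.Sporadic.RuInv

open RuMod
open CfsgLib.Sporadic

noncomputable def lowE (i : ℕ) : ℕ := Data.lowT.field 784 i

noncomputable def highE (i : ℕ) : ℕ := Data.highT.field 784 i

/-- The element numbered `e`. -/
noncomputable def elem (e : ℕ) : ℕ := mm (lowE (Nat.land e 127)) (highE (Nat.shiftRight e 7))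

noncomputable def sgen (i : ℕ) : ℕ := Data.sylGen.getD i 0

/-- The generators are sifted and lie in the tables. -/
noncomputable def genOK (i : ℕ) : Bool :=
  fieldsOK gChain (Data.sylSift.getD i 0) && Nat.beq (prodFrom gChain (Data.sylSift.getD i 0)) (sgen i)

/-- One doubling of a table. -/
noncomputable def stepOK (T : ℕ → ℕ) (off i : ℕ) : Bool :=
  forallLt (2 ^ i) (fun e => Nat.beq (T (Nat.add e (2 ^ i))) (mm (T e) (sgen (Nat.add off i))))

noncomputable def tablesOK : Bool :=
  Nat.beq (lowE 0) one && Nat.beq (highE 0) one && forallLt 7 (stepOK lowE 0) && forallLt 7 (stepOK highE 7)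

noncomputable def relQ (i j : ℕ) : ℕ := Data.relL.getD (Nat.add (Nat.div (Nat.mul i (Nat.add i 1)) 2) j) 0

/-- A generator squares into and normalises the group of the earlier ones, outside which it lies. -/
noncomputable def relOK (i : ℕ) : Bool :=
  Nat.blt (relQ i 0) (2 ^ i) && Nat.beq (mm (sgen i) (sgen i)) (elem (relQ i 0)) &&
    forallLt i (fun j => Nat.blt (relQ i (Nat.add j 1)) (2 ^ i) &&
      Nat.beq (mm (sgen i) (sgen j)) (mm (elem (relQ i (Nat.add j 1))) (sgen i))) &&
    forallLt (2 ^ i) (fun e => ! Nat.beq (elem e) (sgen i))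

/-- The two representatives. -/
noncomputable def repM (k : ℕ) : ℕ := cond (Nat.beq k 0) Data.sMat Data.jMat

noncomputable def invCode (i : ℕ) : ℕ := Data.invT.field 128 i

noncomputable def invTag (i : ℕ) : ℕ := Nat.land (invCode i) 1

noncomputable def invConj (i : ℕ) : ℕ := Nat.shiftRight (invCode i) 1

/-- The conjugator takes the representative to `x`. -/
noncomputable def conjOK (h rep x : ℕ) : Bool :=
  fieldsOK gChain h && Nat.beq (mm (prodFrom gChain h) rep) (mm x (prodFrom gChain h))

noncomputable def aux (e : ℕ) : ℕ := Data.auxT.field 16 e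

/-- The test of one element. -/
noncomputable def scanOK (e : ℕ) : Bool :=
  cond (Nat.beq (mm (elem e) (elem e)) one)
    (Nat.beq e 0 || conjOK (invConj (aux e)) (repM (invTag (aux e))) (elem e))
    (cond (Nat.beq (mm (mm (elem e) (elem e)) (mm (elem e) (elem e))) one)
      (Nat.blt (aux e) 16384 && ! Nat.beq (aux e) 0 && Nat.beq (mm (elem e) (elem e)) (elem (aux e)) &&
        Nat.beq (invTag (aux (aux e))) 0)
      true)

noncomputable def scanBlock (b : ℕ) : Bool := forallLt 1024 (fun e => scanOK (Nat.add (Nat.mul b 1024) e))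

/-- The named elements. -/
noncomputable def namedOK : Bool :=
  Nat.beq (mm (mm Data.aMat Data.jMat) (mm Data.aMat Data.jMat)) Data.sMat &&
    conjOK Data.conjA Data.sMat Data.aMat && conjOK Data.conjK Data.jMat Data.kMat &&
    conjOK Data.conjL Data.jMat (mm Data.jMat Data.kMat)

end CfsgLib.Sporadic.RuInv
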